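import Mathlib
import Cfsg.Prelude.Def_GeometricClasses

set_option autoImplicit false

/-!
# Project EIG (leader: helper13) -> S5877 (3u) : eigenspace bounds for elements normalising an absolutely irreducible
extraspecial group.  Definitions only.

`S` plays the role of `R ⊔ scalars`; `Hyp r S` collects ALL that is used about it.
`Eig g c` is the eigenspace of the statement, `psi h x = h⁻¹ x h x⁻¹`.
-/

namespace Cfsg.Agent.Lib.Helper13.EIG

open Matrix

variable {n : ℕ} {F : Type*} [Field F]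

/-- the commutator `u v u⁻¹ v⁻¹` -/
def cm (u v : Matrix.GeneralLinearGroup (Fin n) F) : Matrix.GeneralLinearGroup (Fin n) F :=
  u * v * u⁻¹ * v⁻¹

/-- What is used about `S = R ⊔ Z` (`Z` = scalars): `Z ≤ S`, commutators of `S` are scalars with `r`-th power `1`,
only the scalars centralise `S`, and `S` is not abelian. -/
structure Hyp (r : ℕ) (S : Subgroup (Matrix.GeneralLinearGroup (Fin n) F)) : Prop where
  prime : r.Prime
  scal_le : Cfsg.Geo.scalars (Fin n) F ≤ S
  comm_mem : ∀ u ∈ S, ∀ v ∈ S, cm u v ∈ Cfsg.Geo.scalars (Fin n) F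
  comm_pow : ∀ u ∈ S, ∀ v ∈ S, cm u v ^ r = 1
  cent : ∀ h : Matrix.GeneralLinearGroup (Fin n) F, (∀ s ∈ S, h * s = s * h) →
    h ∈ Cfsg.Geo.scalars (Fin n) F
  nonab : ∃ u ∈ S, ∃ v ∈ S, u * v ≠ v * u

/-- the eigenspace of the statement of S5877 -/
abbrev Eig (g : Matrix.GeneralLinearGroup (Fin n) F) (c : F) : Submodule F (Fin n → F) :=
  Module.End.eigenspace (Matrix.toLin' (g : Matrix (Fin n) (Fin n) F)) c

/-- `psi h x = h⁻¹ x h x⁻¹` -/
def psi (h x : Matrix.GeneralLinearGroup (Fin n) F) : Matrix.GeneralLinearGroup (Fin n) F :=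
  h⁻¹ * x * h * x⁻¹

/-- the linear automorphism `v ↦ x *ᵥ v` -/
noncomputable def lin (x : Matrix.GeneralLinearGroup (Fin n) F) : (Fin n → F) ≃ₗ[F] (Fin n → F) :=
  LinearEquiv.ofLinearMap (Matrix.toLin' (x : Matrix (Fin n) (Fin n) F))
    (Matrix.toLin' ((x⁻¹ : Matrix.GeneralLinearGroup (Fin n) F) : Matrix (Fin n) (Fin n) F))
    (by rw [← Matrix.toLin'_mul, ← Matrix.GeneralLinearGroup.coe_mul, mul_inv_cancel]; simp)
    (by rw [← Matrix.toLin'_mul, ← Matrix.GeneralLinearGroup.coe_mul, inv_mul_cancel]; simp)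

end Cfsg.Agent.Lib.Helper13.EIG
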