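import Mathlib
import Cfsg.Prelude.Def_GeometricClasses
import Cfsg.Agent.Lib.Helper13.EIG.Defs

set_option autoImplicit false
set_option linter.unusedVariables false
set_option linter.unusedSectionVars false

/-!
# Project EIG (leader: helper13) -> S5877 : basic lemmas (real proofs), free to use in every piece.
-/

namespace Cfsg.Agent.Lib.Helper13.EIG

open Matrix

variable {n : ℕ} {F : Type*} [Field F] {r : ℕ}
  {S : Subgroup (Matrix.GeneralLinearGroup (Fin n) F)}

theorem mv_mul (x y : Matrix.GeneralLinearGroup (Fin n) F) (v : Fin n → F) :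
    ((x * y : Matrix.GeneralLinearGroup (Fin n) F) : Matrix (Fin n) (Fin n) F) *ᵥ v =
      (x : Matrix (Fin n) (Fin n) F) *ᵥ ((y : Matrix (Fin n) (Fin n) F) *ᵥ v) := by
  rw [Matrix.GeneralLinearGroup.coe_mul, Matrix.mulVec_mulVec]

theorem mv_one (v : Fin n → F) :
    ((1 : Matrix.GeneralLinearGroup (Fin n) F) : Matrix (Fin n) (Fin n) F) *ᵥ v = v := by
  simp

theorem mv_inv_mv (x : Matrix.GeneralLinearGroup (Fin n) F) (v : Fin n → F) :
    ((x⁻¹ : Matrix.GeneralLinearGroup (Fin n) F) : Matrix (Fin n) (Fin n) F) *ᵥ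
      ((x : Matrix (Fin n) (Fin n) F) *ᵥ v) = v := by
  rw [← mv_mul, inv_mul_cancel, mv_one]

theorem mv_mv_inv (x : Matrix.GeneralLinearGroup (Fin n) F) (v : Fin n → F) :
    (x : Matrix (Fin n) (Fin n) F) *ᵥ
      (((x⁻¹ : Matrix.GeneralLinearGroup (Fin n) F) : Matrix (Fin n) (Fin n) F) *ᵥ v) = v := by
  rw [← mv_mul, mul_inv_cancel, mv_one]

theorem mv_inj (x : Matrix.GeneralLinearGroup (Fin n) F) {v w : Fin n → F}
    (h : (x : Matrix (Fin n) (Fin n) F) *ᵥ v = (x : Matrix (Fin n) (Fin n) F) *ᵥ w) : v = w := by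
  rw [← mv_inv_mv x v, h, mv_inv_mv]

theorem mem_Eig {g : Matrix.GeneralLinearGroup (Fin n) F} {c : F} {v : Fin n → F} :
    v ∈ Eig g c ↔ (g : Matrix (Fin n) (Fin n) F) *ᵥ v = c • v := by
  rw [Eig, Module.End.mem_eigenspace_iff, Matrix.toLin'_apply]

theorem lin_apply (x : Matrix.GeneralLinearGroup (Fin n) F) (v : Fin n → F) :
    lin x v = (x : Matrix (Fin n) (Fin n) F) *ᵥ v := by
  simp [lin]

theorem lin_symm_apply (x : Matrix.GeneralLinearGroup (Fin n) F) (v : Fin n → F) :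
    (lin x).symm v = ((x⁻¹ : Matrix.GeneralLinearGroup (Fin n) F) : Matrix (Fin n) (Fin n) F) *ᵥ v := by
  simp [lin]

theorem mem_map_lin {x : Matrix.GeneralLinearGroup (Fin n) F} {W : Submodule F (Fin n → F)}
    {v : Fin n → F} : v ∈ W.map (lin x).toLinearMap ↔
      ((x⁻¹ : Matrix.GeneralLinearGroup (Fin n) F) : Matrix (Fin n) (Fin n) F) *ᵥ v ∈ W := by
  constructor
  · rintro ⟨u, hu, rfl⟩
    simp only [LinearEquiv.coe_coe, lin_apply, mv_inv_mv]
    exact hu
  · intro h
    refine ⟨_, h, ?_⟩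
    simp only [LinearEquiv.coe_coe, lin_apply, mv_mv_inv]

theorem finrank_map_lin (x : Matrix.GeneralLinearGroup (Fin n) F) (W : Submodule F (Fin n → F)) :
    Module.finrank F (W.map (lin x).toLinearMap) = Module.finrank F W :=
  LinearEquiv.finrank_map_eq (lin x) W

/-- a scalar acts as a scalar -/
theorem scalar_mv {z : Matrix.GeneralLinearGroup (Fin n) F} (hz : z ∈ Cfsg.Geo.scalars (Fin n) F) :
    ∃ a : Fˣ, ∀ v : Fin n → F, (z : Matrix (Fin n) (Fin n) F) *ᵥ v = (a : F) • v := by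
  obtain ⟨a, ha⟩ := (Cfsg.Geo.mem_scalars_iff z).1 hz
  refine ⟨a, fun v => ?_⟩
  rw [ha, Matrix.smul_mulVec, Matrix.one_mulVec]

/-- two elements of `GL` acting in the same way are equal -/
theorem gl_ext {x y : Matrix.GeneralLinearGroup (Fin n) F}
    (h : ∀ v : Fin n → F, (x : Matrix (Fin n) (Fin n) F) *ᵥ v = (y : Matrix (Fin n) (Fin n) F) *ᵥ v) :
    x = y := by
  apply Units.ext
  apply Matrix.toLin'.injective
  apply LinearMap.ext
  intro v
  rw [Matrix.toLin'_apply, Matrix.toLin'_apply]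
  exact h v

/-- an element acting as a scalar is a scalar (also for `n = 0`) -/
theorem mem_scalars_of_mv {z : Matrix.GeneralLinearGroup (Fin n) F} {a : F}
    (h : ∀ v : Fin n → F, (z : Matrix (Fin n) (Fin n) F) *ᵥ v = a • v) :
    z ∈ Cfsg.Geo.scalars (Fin n) F := by
  by_cases ha : a = 0
  · have h1 : z = 1 := by
      apply gl_ext
      intro v
      have hv : v = 0 := by rw [← mv_inv_mv z v, h v, ha, zero_smul, Matrix.mulVec_zero]
      rw [hv, Matrix.mulVec_zero, Matrix.mulVec_zero]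
    rw [h1]; exact Subgroup.one_mem _
  · rw [Cfsg.Geo.mem_scalars_iff]
    refine ⟨Units.mk0 a ha, ?_⟩
    apply Matrix.toLin'.injective
    apply LinearMap.ext
    intro v
    rw [Matrix.toLin'_apply, h v]
    simp

theorem scalar_comm {z : Matrix.GeneralLinearGroup (Fin n) F} (hz : z ∈ Cfsg.Geo.scalars (Fin n) F)
    (h : Matrix.GeneralLinearGroup (Fin n) F) : z * h = h * z := by
  obtain ⟨a, ha⟩ := scalar_mv hz
  apply gl_ext
  intro v
  rw [mv_mul, mv_mul, ha, ha, Matrix.mulVec_smul]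

theorem eq_one_of_fix {z : Matrix.GeneralLinearGroup (Fin n) F} (hz : z ∈ Cfsg.Geo.scalars (Fin n) F)
    {v : Fin n → F} (hv : v ≠ 0) (h : (z : Matrix (Fin n) (Fin n) F) *ᵥ v = v) : z = 1 := by
  obtain ⟨a, ha⟩ := scalar_mv hz
  have h1 : (a : F) = 1 := by
    have h2 : ((a : F) - 1) • v = 0 := by rw [sub_smul, one_smul, ← ha, h, sub_self]
    rcases smul_eq_zero.1 h2 with h3 | h3
    · exact sub_eq_zero.1 h3
    · exact absurd h3 hv
  apply gl_ext
  intro w
  rw [ha, h1, one_smul, mv_one]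

theorem eig_one_scalar {z : Matrix.GeneralLinearGroup (Fin n) F}
    (hz : z ∈ Cfsg.Geo.scalars (Fin n) F) (h1 : z ≠ 1) : Eig z 1 = ⊥ := by
  rw [eq_bot_iff]
  intro v hv
  rw [mem_Eig, one_smul] at hv
  rw [Submodule.mem_bot]
  by_contra hv0
  exact h1 (eq_one_of_fix hz hv0 hv)

theorem conj_mem {g : Matrix.GeneralLinearGroup (Fin n) F} (hg : g ∈ Cfsg.Geo.subgroupNormalizer S)
    {x : Matrix.GeneralLinearGroup (Fin n) F} (hx : x ∈ S) : g * x * g⁻¹ ∈ S := by
  unfold Cfsg.Geo.subgroupNormalizer at hg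
  exact (Subgroup.mem_normalizer_iff.1 hg x).1 hx

theorem conj_mem' {g : Matrix.GeneralLinearGroup (Fin n) F} (hg : g ∈ Cfsg.Geo.subgroupNormalizer S)
    {x : Matrix.GeneralLinearGroup (Fin n) F} (hx : x ∈ S) : g⁻¹ * x * g ∈ S := by
  have h := conj_mem (Subgroup.inv_mem _ hg) hx
  rwa [inv_inv] at h

theorem psi_mem {g : Matrix.GeneralLinearGroup (Fin n) F} (hg : g ∈ Cfsg.Geo.subgroupNormalizer S)
    (k : ℕ) {x : Matrix.GeneralLinearGroup (Fin n) F} (hx : x ∈ S) : psi (g ^ k) x ∈ S := by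
  unfold psi
  exact S.mul_mem (conj_mem' (Subgroup.pow_mem _ hg k) hx) (S.inv_mem hx)

theorem psi_mem1 {g : Matrix.GeneralLinearGroup (Fin n) F} (hg : g ∈ Cfsg.Geo.subgroupNormalizer S)
    {x : Matrix.GeneralLinearGroup (Fin n) F} (hx : x ∈ S) : psi g x ∈ S := by
  have h := psi_mem hg 1 hx
  rwa [pow_one] at h

theorem psi_eq_one_iff (h x : Matrix.GeneralLinearGroup (Fin n) F) :
    psi h x = 1 ↔ h * x = x * h := by
  unfold psi
  constructor
  · intro e
    have : h⁻¹ * x * h = x := by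
      have := congrArg (· * x) e
      simpa [mul_assoc] using this
    calc h * x = h * (h⁻¹ * x * h) := by rw [this]
      _ = x * h := by group
  · intro e
    calc h⁻¹ * x * h * x⁻¹ = h⁻¹ * (x * h) * x⁻¹ := by group
      _ = h⁻¹ * (h * x) * x⁻¹ := by rw [e]
      _ = 1 := by group

theorem exists_noncomm (H : Hyp r S) {y : Matrix.GeneralLinearGroup (Fin n) F}
    (hy : y ∉ Cfsg.Geo.scalars (Fin n) F) : ∃ x ∈ S, y * x ≠ x * y := by
  by_contra hcon
  push Not at hcon
  exact hy (H.cent y hcon)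

theorem cm_central (H : Hyp r S) {u v : Matrix.GeneralLinearGroup (Fin n) F} (hu : u ∈ S) (hv : v ∈ S)
    (h : Matrix.GeneralLinearGroup (Fin n) F) : cm u v * h = h * cm u v :=
  scalar_comm (H.comm_mem u hu v hv) h

theorem cm_eq_one_iff (u v : Matrix.GeneralLinearGroup (Fin n) F) : cm u v = 1 ↔ u * v = v * u := by
  unfold cm
  constructor
  · intro e
    calc u * v = (u * v * u⁻¹ * v⁻¹) * (v * u) := by group
      _ = v * u := by rw [e, one_mul]
  · intro e
    calc u * v * u⁻¹ * v⁻¹ = (u * v) * u⁻¹ * v⁻¹ := by group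
      _ = (v * u) * u⁻¹ * v⁻¹ := by rw [e]
      _ = 1 := by group

/-- `u v = ⟨u,v⟩ v u` -/
theorem cm_mul_swap (u v : Matrix.GeneralLinearGroup (Fin n) F) : u * v = cm u v * (v * u) := by
  unfold cm; group

theorem cm_self (u : Matrix.GeneralLinearGroup (Fin n) F) : cm u u = 1 := by
  unfold cm; group

theorem cm_one_right (u : Matrix.GeneralLinearGroup (Fin n) F) : cm u 1 = 1 := by
  unfold cm; group

theorem cm_one_left (u : Matrix.GeneralLinearGroup (Fin n) F) : cm 1 u = 1 := by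
  unfold cm; group

theorem cm_inv_swap (u v : Matrix.GeneralLinearGroup (Fin n) F) : (cm u v)⁻¹ = cm v u := by
  unfold cm; group

/-- bimultiplicativity (left) of the commutator pairing on `S` -/
theorem cm_mul_left (H : Hyp r S) {u v w : Matrix.GeneralLinearGroup (Fin n) F} (hu : u ∈ S) (hv : v ∈ S)
    (hw : w ∈ S) : cm (u * v) w = cm u w * cm v w := by
  have h1 : cm (u * v) w = u * cm v w * u⁻¹ * cm u w := by unfold cm; group
  rw [h1, ← cm_central H hv hw u, mul_inv_cancel_right, cm_central H hv hw]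

/-- bimultiplicativity (right) of the commutator pairing on `S` -/
theorem cm_mul_right (H : Hyp r S) {u v w : Matrix.GeneralLinearGroup (Fin n) F} (hu : u ∈ S) (hv : v ∈ S)
    (hw : w ∈ S) : cm u (v * w) = cm u v * cm u w := by
  have h1 : cm u (v * w) = cm u v * (v * cm u w * v⁻¹) := by unfold cm; group
  rw [h1, ← cm_central H hu hw v, mul_inv_cancel_right]

theorem cm_inv_left (H : Hyp r S) {u w : Matrix.GeneralLinearGroup (Fin n) F} (hu : u ∈ S)
    (hw : w ∈ S) : cm u⁻¹ w = (cm u w)⁻¹ := by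
  have h := cm_mul_left H hu (S.inv_mem hu) hw
  rw [mul_inv_cancel, cm_one_left] at h
  exact eq_inv_of_mul_eq_one_right h.symm

theorem cm_inv_right (H : Hyp r S) {u w : Matrix.GeneralLinearGroup (Fin n) F} (hu : u ∈ S)
    (hw : w ∈ S) : cm u w⁻¹ = (cm u w)⁻¹ := by
  have h := cm_mul_right H hu hw (S.inv_mem hw)
  rw [mul_inv_cancel, cm_one_right] at h
  exact eq_inv_of_mul_eq_one_right h.symm

/-- the pairing is invariant under conjugation by anything (its values are central) -/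
theorem cm_conj (H : Hyp r S) {u v : Matrix.GeneralLinearGroup (Fin n) F} (hu : u ∈ S) (hv : v ∈ S)
    (h : Matrix.GeneralLinearGroup (Fin n) F) : cm (h * u * h⁻¹) (h * v * h⁻¹) = cm u v := by
  have h1 : cm (h * u * h⁻¹) (h * v * h⁻¹) = h * cm u v * h⁻¹ := by unfold cm; group
  rw [h1, ← cm_central H hu hv h, mul_inv_cancel_right]

/-- multiplication by a scalar does not change the pairing -/
theorem cm_mul_scalar_right (H : Hyp r S) {u v z : Matrix.GeneralLinearGroup (Fin n) F}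
    (hz : z ∈ Cfsg.Geo.scalars (Fin n) F) : cm u (v * z) = cm u v := by
  unfold cm
  rw [_root_.mul_inv_rev, ← scalar_comm hz v]
  calc u * (z * v) * u⁻¹ * (z⁻¹ * v⁻¹) = u * (z * (v * u⁻¹)) * z⁻¹ * v⁻¹ := by group
    _ = u * ((v * u⁻¹) * z) * z⁻¹ * v⁻¹ := by rw [scalar_comm hz]
    _ = u * v * u⁻¹ * v⁻¹ := by group

/-- `s ^ r` is a scalar for `s ∈ S` -/
theorem pow_mem_scalars (H : Hyp r S) {s : Matrix.GeneralLinearGroup (Fin n) F} (hs : s ∈ S) :
    s ^ r ∈ Cfsg.Geo.scalars (Fin n) F := by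
  apply H.cent
  intro x hx
  -- cm (s^r) x = (cm s x)^r = 1
  have key : ∀ k : ℕ, cm (s ^ k) x = cm s x ^ k := by
    intro k
    induction k with
    | zero => rw [pow_zero, pow_zero, cm_one_left]
    | succ k ih =>
      rw [pow_succ, cm_mul_left H (S.pow_mem hs k) hs hx, ih, pow_succ]
  have h1 : cm (s ^ r) x = 1 := by rw [key, H.comm_pow s hs x hx]
  exact (cm_eq_one_iff _ _).1 h1

/-- a non-trivial value of the pairing acts as a primitive `r`-th root of unity -/
theorem cm_prim (H : Hyp r S) {u v : Matrix.GeneralLinearGroup (Fin n) F} (hu : u ∈ S) (hv : v ∈ S)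
    (hne : u * v ≠ v * u) :
    ∃ a : F, IsPrimitiveRoot a r ∧
      ∀ w : Fin n → F, (cm u v : Matrix (Fin n) (Fin n) F) *ᵥ w = a • w := by
  obtain ⟨a, ha⟩ := scalar_mv (H.comm_mem u hu v hv)
  refine ⟨a, ?_, ha⟩
  have hn0 : ∃ w : Fin n → F, w ≠ 0 := by
    by_contra hcon
    push Not at hcon
    apply hne
    apply gl_ext
    intro w
    rw [hcon w, Matrix.mulVec_zero, Matrix.mulVec_zero]
  obtain ⟨w, hw⟩ := hn0
  have hpow : ∀ k : ℕ, ((cm u v ^ k : Matrix.GeneralLinearGroup (Fin n) F) :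
      Matrix (Fin n) (Fin n) F) *ᵥ w = (a : F) ^ k • w := by
    intro k
    induction k with
    | zero => rw [pow_zero, pow_zero, one_smul, mv_one]
    | succ k ih => rw [pow_succ, mv_mul, ha, Matrix.mulVec_smul, ih, smul_smul, pow_succ, mul_comm]
  have h1 : (a : F) ^ r = 1 := by
    have h2 := hpow r
    rw [H.comm_pow u hu v hv, mv_one] at h2
    have h3 : ((a : F) ^ r - 1) • w = 0 := by rw [sub_smul, one_smul, ← h2, sub_self]
    rcases smul_eq_zero.1 h3 with h4 | h4
    · exact sub_eq_zero.1 h4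
    · exact absurd h4 hw
  have h2 : (a : F) ≠ 1 := by
    intro h3
    apply hne
    rw [← cm_eq_one_iff]
    apply gl_ext
    intro w'
    rw [ha, h3, one_smul, mv_one]
  have hr := H.prime
  have hord : orderOf (a : F) = r := by
    have hd : orderOf (a : F) ∣ r := orderOf_dvd_of_pow_eq_one h1
    rcases (Nat.dvd_prime hr).1 hd with h3 | h3
    · exact absurd (orderOf_eq_one_iff.1 h3) h2
    · exact h3
  rw [← hord]
  exact IsPrimitiveRoot.orderOf _

/-- there is a primitive `r`-th root of unity in `F` -/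
theorem exists_prim (H : Hyp r S) : ∃ a : F, IsPrimitiveRoot a r := by
  obtain ⟨u, hu, v, hv, hne⟩ := H.nonab
  obtain ⟨a, ha, _⟩ := cm_prim H hu hv hne
  exact ⟨a, ha⟩

end Cfsg.Agent.Lib.Helper13.EIG
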