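import Mathlib
import Cfsg.Prelude.Def_GeometricClasses
import Cfsg.Agent.Lib.Helper13.EIG.Defs
import Cfsg.Agent.Lib.Helper13.EIG.Basic
import Cfsg.Agent.Lib.Helper13.EIGINT
import Cfsg.Agent.Lib.Helper13.EIGL1
import Cfsg.Agent.Lib.Helper13.EIGL1b
import Cfsg.Agent.Lib.Helper13.EIGODDA
import Cfsg.Agent.Lib.Helper13.EIGODDC
import Cfsg.Agent.Lib.Helper13.EIGODDD
import Cfsg.Agent.Lib.Helper13.EIGRDVD
import Cfsg.Agent.Lib.Helper13.EIGFIX
import Cfsg.Agent.Lib.Helper13.EIGSETUP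
import Cfsg.Agent.Lib.Helper1.EIGDIM
import Cfsg.Agent.Lib.Helper1.EIGODDB
import Cfsg.Agent.Lib.Helper18.EIGCNT0
import Cfsg.Agent.Lib.Helper18.EIGCNT1
import Cfsg.Agent.Lib.Helper21.EIGJOINT
import Cfsg.Agent.Lib.Helper21.EIGSHIFT
import Cfsg.Agent.Lib.helper6.EIGDIAG

set_option autoImplicit false
set_option linter.unusedVariables false
set_option linter.unusedSectionVars false

/-!
# Project EIG (leader: helper13) -> S5877 : assembly.
-/

namespace Cfsg.Agent.Lib.Helper13.EIG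

open Matrix

variable {n : ℕ} {F : Type*} [Field F] {r : ℕ}
  {S : Subgroup (Matrix.GeneralLinearGroup (Fin n) F)}

/-- (F) : `ϖ` odd, coprime to `r` -/
theorem odd_bound (H : Hyp r S) {g : Matrix.GeneralLinearGroup (Fin n) F}
    (hg : g ∈ Cfsg.Geo.subgroupNormalizer S) (hns : g ∉ Cfsg.Geo.scalars (Fin n) F) {ϖ : ℕ}
    (hodd : Odd ϖ) (hpow : g ^ ϖ = 1) (hcop : Nat.Coprime ϖ r) (c : F) :
    2 * Module.finrank F (Eig g c) ≤ n := by
  by_contra hcon
  push Not at hcon
  have h1 : ∀ x ∈ S, x * (g⁻¹ * x * g) = (g⁻¹ * x * g) * x := fun x hx =>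
    beta_one H hg hpow hcop hx (fun k l => psi_commute H hg c hcon hx k l)
  have h2 := polar H hg h1
  have h3 := odd_triv H hg hodd hpow h2
  exact absurd (bound_of_triv H hg hns h3 c) (not_le.2 hcon)

theorem eig_zero (g : Matrix.GeneralLinearGroup (Fin n) F) : Eig g 0 = ⊥ := by
  rw [eq_bot_iff]
  intro v hv
  rw [mem_Eig, zero_smul] at hv
  rw [Submodule.mem_bot, ← mv_inv_mv g v, hv, Matrix.mulVec_zero]

/-- (G) : `ϖ = r ≥ 3` : `r w ≤ 2 n` or `2 w ≤ n` -/
theorem eq_bound [Finite F] (H : Hyp r S) {g : Matrix.GeneralLinearGroup (Fin n) F}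
    (hg : g ∈ Cfsg.Geo.subgroupNormalizer S) (hns : g ∉ Cfsg.Geo.scalars (Fin n) F)
    (hpow : g ^ r = 1) (hodd : r ≠ 2) (c : F) :
    2 * Module.finrank F (Eig g c) ≤ n ∨ r * Module.finrank F (Eig g c) ≤ 2 * n := by
  by_cases hcon : 2 * Module.finrank F (Eig g c) ≤ n
  · exact Or.inl hcon
  push Not at hcon
  right
  have hr := H.prime
  by_cases hc0 : c = 0
  · rw [hc0, eig_zero]; simp
  -- some psi g x is not a scalar
  have hex : ∃ x ∈ S, psi g x ∉ Cfsg.Geo.scalars (Fin n) F := by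
    by_contra hno
    push Not at hno
    exact absurd (bound_of_triv H hg hns hno c) (not_le.2 hcon)
  obtain ⟨x, hx, hxn⟩ := hex
  obtain ⟨v, hv0, hv, hfix⟩ := exists_fix g x c hcon
  have hxv := hfix 1
  rw [pow_one] at hxv
  obtain ⟨x', hx', hyn, hgy⟩ := exists_fixed H hg hpow hv0 hv hx hxn hxv
  -- y' = psi g x'
  have hyS : psi g x' ∈ S := psi_mem1 hg hx'
  obtain ⟨v', hv'0, hv', hfix'⟩ := exists_fix g x' c hcon
  have hyv := hfix' 1
  rw [pow_one] at hyv
  have hyr : psi g x' ^ r = 1 := by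
    apply eq_one_of_fix (pow_mem_scalars H hyS) hv'0
    have : ∀ k : ℕ, ((psi g x' ^ k : Matrix.GeneralLinearGroup (Fin n) F) :
        Matrix (Fin n) (Fin n) F) *ᵥ v' = v' := by
      intro k
      induction k with
      | zero => rw [pow_zero, mv_one]
      | succ k ih => rw [pow_succ, mv_mul, hyv, ih]
    exact this r
  have hxg : x' * g = g * psi g x' * x' := by unfold psi; group
  obtain ⟨e, he⟩ := scalar_mv (H.comm_mem x' hx' (psi g x') hyS)
  have hxy : ∀ u : Fin n → F, ((x' * psi g x' : Matrix.GeneralLinearGroup (Fin n) F) :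
      Matrix (Fin n) (Fin n) F) *ᵥ u =
      (e : F) • (((psi g x' * x' : Matrix.GeneralLinearGroup (Fin n) F) :
        Matrix (Fin n) (Fin n) F) *ᵥ u) := by
    intro u
    rw [cm_mul_swap x' (psi g x'), mv_mul, he]
  have hsh := shift hxg hxy e.ne_zero
  have hsum : ∀ (b : F) (A : Finset F), r * ∑ a ∈ A,
      Module.finrank F (Eig g a ⊓ Eig (psi g x') b : Submodule F (Fin n → F)) ≤ n := by
    intro b A
    calc r * ∑ a ∈ A, Module.finrank F (Eig g a ⊓ Eig (psi g x') b : Submodule F (Fin n → F))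
        ≤ r * Module.finrank F (Eig (psi g x') b) := Nat.mul_le_mul_left _ (joint_sum_le g _ b A)
      _ ≤ n := eig_dim_le H hyS hyn b
  by_cases hcomm : x' * psi g x' = psi g x' * x'
  · -- ε = 1
    have he1 : (e : F) = 1 := by
      have h1 : cm x' (psi g x') = 1 := (cm_eq_one_iff _ _).2 hcomm
      have h2 := he v'
      rw [h1, mv_one] at h2
      have h3 : ((e : F) - 1) • v' = 0 := by rw [sub_smul, one_smul, ← h2, sub_self]
      rcases smul_eq_zero.1 h3 with h4 | h4
      · exact sub_eq_zero.1 h4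
      · exact absurd h4 hv'0
    obtain ⟨ζ, hζ⟩ := exists_prim H
    rw [diag_sum hr.pos hζ hyr hgy c]
    apply count_eq hr hζ (fun a b => Module.finrank F (Eig g a ⊓ Eig (psi g x') b :
      Submodule F (Fin n → F))) _ hsum c hc0
    intro a b hb
    have := hsh a b hb
    rw [he1, mul_one] at this
    exact this
  · -- ε ≠ 1
    obtain ⟨ε, hε, hε2⟩ := cm_prim H hx' hyS hcomm
    have hee : (e : F) = ε := by
      have h2 := he v'
      rw [hε2 v'] at h2
      have h3 : (ε - (e : F)) • v' = 0 := by rw [sub_smul, h2, sub_self]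
      rcases smul_eq_zero.1 h3 with h4 | h4
      · exact (sub_eq_zero.1 h4).symm
      · exact absurd h4 hv'0
    rw [diag_sum hr.pos hε hyr hgy c]
    apply count_ne hr hodd hε (fun a b => Module.finrank F (Eig g a ⊓ Eig (psi g x') b :
      Submodule F (Fin n → F))) _ (hsum 1) c hc0
    intro a b hb
    have := hsh a b hb
    rw [hee] at this
    exact this

end Cfsg.Agent.Lib.Helper13.EIG

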